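import Groth.Agent.Lib.Hurwitz17.Fibre
import Groth.Agent.Lib.Weight4.MultRank
import Groth.Agent.Lib.EtaleNhd17.Basic
import Groth.Agent.Lib.CurveOm17.P1

/-!
# Sums of ramification indices over a closed point, algebraically closed base
-/

set_option linter.style.haveILetI false
set_option autoImplicit false

universe u

open CategoryTheory CategoryTheory.Limits AlgebraicGeometry

namespace Groth.Agent.TwoPts17

variable {k : Type u} [Field k] [IsAlgClosed k] {X Y : Scheme.{u}} [X.Over (Spec (CommRingCat.of k))]
  [Y.Over (Spec (CommRingCat.of k))] [LocallyOfFiniteType (X ↘ Spec (CommRingCat.of k))]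
  [LocallyOfFiniteType (Y ↘ Spec (CommRingCat.of k))]

theorem finrank_residueField_eq_one {x : X} (hx : IsClosed ({x} : Set X)) :
    letI := Curv2.resAlgebra k X x
    Module.finrank k (X.residueField x) = 1 := by
  letI := Curv2.resAlgebra k X x
  haveI : Module.Finite k (X.residueField x) :=
    WeilH13.finite_residueField_of_isClosed (X ↘ Spec (CommRingCat.of k)) x hx
  haveI : Algebra.IsIntegral k (X.residueField x) := Algebra.IsIntegral.of_finite _ _
  rw [← LinearEquiv.finrank_eq (LinearEquiv.ofBijective (Algebra.linearMap k (X.residueField x))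
    (IsAlgClosed.algebraMap_bijective_of_isIntegral (k := k) (K := X.residueField x))), Module.finrank_self]

/-- In characteristic zero every closed point with trivial residue extension and positive index is tame. -/
theorem tameAt_of_charZero [CharZero k] (f : X ⟶ Y)
    (hf : f ≫ (Y ↘ Spec (CommRingCat.of k)) = X ↘ Spec (CommRingCat.of k)) {x : X} (hx : IsClosed ({x} : Set X))
    (hy : IsClosed ({f x} : Set Y)) (he : 1 ≤ Hurwitz17.ramIdx f x) : Hurwitz17.TameAt f x := by
  letI := (f.residueFieldMap x).hom.toAlgebra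
  have hbij := EtaleNhd17.bijective_residueFieldMap f (X ↘ Spec (CommRingCat.of k)) (Y ↘ Spec (CommRingCat.of k)) hf hx hy
  refine ⟨⟨fun z => ?_⟩, ?_⟩
  · obtain ⟨c, rfl⟩ := hbij.2 z
    exact isSeparable_algebraMap (F := Y.residueField (f x)) (K := X.residueField x) c
  · haveI : CharZero (Y.residueField (f x)) :=
      charZero_of_injective_ringHom (Curv2.resMap k Y (f x)).injective
    exact_mod_cast (show Hurwitz17.ramIdx f x ≠ 0 by omega)

/-- Ramification indices over a closed point sum to the rank. -/
theorem sum_ramIdx (f : X ⟶ Y) [IsFinite f] [Flat f]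
    (hf : f ≫ (Y ↘ Spec (CommRingCat.of k)) = X ↘ Spec (CommRingCat.of k))
    (hdvr : ∀ x : X, IsClosed ({x} : Set X) → ∃ h : IsDomain (X.presheaf.stalk x), @IsDiscreteValuationRing (X.presheaf.stalk x) _ h)
    {y : Y} (hy : IsClosed ({y} : Set Y))
    (hinj : ∀ x, f x = y → ∃ n, 1 ≤ n ∧ Ideal.map (f.stalkMap x).hom (IsLocalRing.maximalIdeal (Y.presheaf.stalk (f x))) =
      IsLocalRing.maximalIdeal (X.presheaf.stalk x) ^ n)
    (hterm : ∀ x, f x = y → IsClosed ({x} : Set X)) (S : Finset X) (hS : ∀ x, x ∈ S ↔ f x = y) :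
    (∑ x ∈ S, Hurwitz17.ramIdx f x : ℕ) = f.finrank y := by
  classical
  have h := Weight.fibreIntegral_wt_eq_finrank f y
  have hval : ∀ x, f x = y → Weight.wt f x * (letI := (f.residueFieldMap x).hom.toAlgebra
      (Field.finSepDegree (Y.residueField (f x)) (X.residueField x) : ℤ)) = (Hurwitz17.ramIdx f x : ℤ) := by
    intro x hx
    obtain ⟨n, hn1, hn⟩ := hinj x hx
    obtain ⟨hdom, hd⟩ := hdvr x (hterm x hx)
    haveI := hdom
    haveI := hd
    letI := (f.residueFieldMap x).hom.toAlgebra
    have hbij := EtaleNhd17.bijective_residueFieldMap f (X ↘ Spec (CommRingCat.of k)) (Y ↘ Spec (CommRingCat.of k)) hf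
      (hterm x hx) (hx ▸ hy)
    have hfr : Module.finrank (Y.residueField (f x)) (X.residueField x) = 1 := by
      rw [← LinearEquiv.finrank_eq (LinearEquiv.ofBijective (Algebra.linearMap (Y.residueField (f x)) (X.residueField x))
        hbij), Module.finrank_self]
    have hmul := Field.finSepDegree_mul_finInsepDegree (Y.residueField (f x)) (X.residueField x)
    rw [hfr, mul_eq_one] at hmul
    have hram : Hurwitz17.ramIdx f x = n := by
      letI := (f.stalkMap x).hom.toAlgebra
      haveI : IsLocalHom (algebraMap (Y.presheaf.stalk (f x)) (X.presheaf.stalk x)) :=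
        inferInstanceAs (IsLocalHom (f.stalkMap x).hom)
      exact Hurwitz17.ramificationIdx_eq_of_map_eq (IsDiscreteValuationRing.not_a_field _) hn
    rw [Weight.wt, hn, IsDiscreteValuationRing.length_quotient_pow_maximalIdeal, hram]
    simp [hmul.1, hmul.2]
  rw [MoreMor.fibreIntegral, finsum_congr (fun u : {u : X // f u = y} => hval u.1 u.2)] at h
  haveI : Fintype {u : X // f u = y} := Fintype.subtype S hS
  rw [finsum_eq_sum_of_fintype, ← Finset.sum_subtype S hS (fun x => (Hurwitz17.ramIdx f x : ℤ))] at h
  exact_mod_cast h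

end Groth.Agent.TwoPts17
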